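import Groth.Agent.EtRatLib.Normal
import Groth.Agent.EtPnCohLib.Compact
import Groth.Agent.EtSliceLib.Hpull
import Groth.Agent.S0646

/-!
# Rational etale cohomology of a product of valuation rings

The spectrum of a product of valuation domains has vanishing higher etale cohomology with rational
coefficients: its connected components are spectra of ultraproducts, which are again valuation rings.
-/

set_option autoImplicit false
set_option linter.unusedSectionVars false
set_option linter.style.haveILetI false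
set_option backward.isDefEq.respectTransparency false
set_option backward.isDefEq.respectTransparency.types false
set_option maxHeartbeats 1000000

universe u

open CategoryTheory CategoryTheory.Limits CategoryTheory.Abelian AlgebraicGeometry Opposite
open EtSliceLib Groth.Agent.EtShLib

namespace PiRatLib

noncomputable section

variable {V : Type u} (O : V → Type u) [∀ v, CommRing (O v)]

/-- The product over a subset of the index set. -/
abbrev R (T : Set V) : Type u := Π v : T, O v.1

/-- Restriction between products. -/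
def rs {A B : Set V} (h : A ⊆ B) : R O B →+* R O A :=
  RingHom.pi fun v : A => Pi.evalRingHom (fun w : B => O w.1) ⟨v.1, h v.2⟩

theorem rs_apply {A B : Set V} (h : A ⊆ B) (f : R O B) (v : A) : rs O h f v = f ⟨v.1, h v.2⟩ := rfl

open scoped Classical in
/-- The idempotent of a subset. -/
def idem {B : Set V} (A : Set V) : R O B := fun v => if v.1 ∈ A then 1 else 0

theorem rs_surjective {A B : Set V} (h : A ⊆ B) : Function.Surjective (rs O h) := fun f => by
  classical
  refine ⟨fun v => if hv : v.1 ∈ A then f ⟨v.1, hv⟩ else 0, funext fun v => ?_⟩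
  rw [rs_apply, dif_pos v.2]

theorem isAway_rs {A B : Set V} (h : A ⊆ B) :
    letI := (rs O h).toAlgebra
    IsLocalization.Away (idem O A : R O B) (R O A) := by
  letI := (rs O h).toAlgebra
  refine IsLocalization.away_of_isIdempotentElem_of_mul ?_ (fun x y => ?_) (rs_surjective O h)
  · funext v
    simp only [Pi.mul_apply, idem]
    split_ifs <;> simp
  · show rs O h x = rs O h y ↔ _
    constructor
    · intro e
      funext v
      simp only [Pi.mul_apply, idem]
      split_ifs with hv
      · simpa [rs_apply] using congrFun e ⟨v.1, hv⟩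
      · simp
    · intro e
      funext v
      have h' := congrFun e ⟨v.1, h v.2⟩
      simpa [idem, rs_apply] using h'

theorem isOpenImmersion_rs {A B : Set V} (h : A ⊆ B) :
    IsOpenImmersion (Spec.map (CommRingCat.ofHom (rs O h))) := by
  letI := (rs O h).toAlgebra
  haveI := isAway_rs O h
  exact IsOpenImmersion.of_isLocalization (idem O A : R O B)

theorem range_rs {A B : Set V} (h : A ⊆ B) :
    Set.range (Spec.map (CommRingCat.ofHom (rs O h))).base = {p : PrimeSpectrum (R O B) | (idem O A : R O B) ∉ p.asIdeal} := by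
  letI := (rs O h).toAlgebra
  haveI := isAway_rs O h
  exact PrimeSpectrum.localization_away_comap_range (R O A) (idem O A : R O B)

/-- The piece of `Spec` of the product cut out by a subset. -/
def W (T : Set V) : (Spec (CommRingCat.of (R O Set.univ))).Etale :=
  haveI := isOpenImmersion_rs O (Set.subset_univ T)
  Scheme.Etale.mk (Spec.map (CommRingCat.ofHom (rs O (Set.subset_univ T))))

/-- Inclusions of the pieces. -/
def inW {A B : Set V} (h : A ⊆ B) : W O A ⟶ W O B :=
  MorphismProperty.Over.homMk (Spec.map (CommRingCat.ofHom (rs O h))) (by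
    show Spec.map (CommRingCat.ofHom (rs O h)) ≫ Spec.map (CommRingCat.ofHom (rs O (Set.subset_univ B))) =
      Spec.map (CommRingCat.ofHom (rs O (Set.subset_univ A)))
    rw [← Spec.map_comp]
    rfl)

section Component

variable (U : Ultrafilter V)

/-- The index set of the members of an ultrafilter. -/
abbrev Idx : Type u := {T : Set V // T ∈ U}ᵒᵈ

instance : Nonempty (Idx U) := ⟨OrderDual.toDual ⟨Set.univ, Filter.univ_mem⟩⟩

instance : IsDirected (Idx U) (· ≤ ·) :=
  ⟨fun a b => ⟨OrderDual.toDual ⟨(OrderDual.ofDual a).1 ∩ (OrderDual.ofDual b).1,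
    Filter.inter_mem (OrderDual.ofDual a).2 (OrderDual.ofDual b).2⟩,
    fun _ h => h.1, fun _ h => h.2⟩⟩

/-- The system of products over the members of an ultrafilter. -/
def sys : Idx U ⥤ CommRingCat.{u} where
  obj T := CommRingCat.of (R O (OrderDual.ofDual T).1)
  map {A B} f := CommRingCat.ofHom (rs O (show (OrderDual.ofDual B).1 ⊆ (OrderDual.ofDual A).1 from leOfHom f))
  map_id _ := rfl
  map_comp _ _ := rfl

variable [∀ v, IsDomain (O v)]

theorem exists_rep₂ (x y : (colimit (sys O U) : CommRingCat.{u})) :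
    ∃ (T : Idx U) (a b : R O (OrderDual.ofDual T).1), colimit.ι (sys O U) T a = x ∧ colimit.ι (sys O U) T b = y := by
  obtain ⟨T₁, a, rfl⟩ := Concrete.colimit_exists_rep (sys O U) x
  obtain ⟨T₂, b, rfl⟩ := Concrete.colimit_exists_rep (sys O U) y
  obtain ⟨T, h₁, h₂⟩ := exists_ge_ge T₁ T₂
  refine ⟨T, (sys O U).map (homOfLE h₁) a, (sys O U).map (homOfLE h₂) b, ?_, ?_⟩
  · rw [← ConcreteCategory.comp_apply, colimit.w]
  · rw [← ConcreteCategory.comp_apply, colimit.w]

theorem ι_eq_zero {T : Idx U} (a : R O (OrderDual.ofDual T).1) {S : Set V} (hS : S ∈ U)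
    (h : ∀ v : (OrderDual.ofDual T).1, v.1 ∈ S → a v = 0) : colimit.ι (sys O U) T a = 0 := by
  let T' : Idx U := OrderDual.toDual ⟨(OrderDual.ofDual T).1 ∩ S, Filter.inter_mem (OrderDual.ofDual T).2 hS⟩
  have hT : T ≤ T' := fun _ h => h.1
  have e : (sys O U).map (homOfLE hT) a = 0 := funext fun v => h ⟨v.1, v.2.1⟩ v.2.2
  rw [← colimit.w (sys O U) (homOfLE hT), ConcreteCategory.comp_apply, e, map_zero]

theorem ι_dvd {T : Idx U} (a b : R O (OrderDual.ofDual T).1) {S : Set V} (hS : S ∈ U)
    (h : ∀ v : (OrderDual.ofDual T).1, v.1 ∈ S → a v ∣ b v) :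
    colimit.ι (sys O U) T a ∣ colimit.ι (sys O U) T b := by
  classical
  let T' : Idx U := OrderDual.toDual ⟨(OrderDual.ofDual T).1 ∩ S, Filter.inter_mem (OrderDual.ofDual T).2 hS⟩
  have hT : T ≤ T' := fun _ h => h.1
  have hd : (sys O U).map (homOfLE hT) a ∣ (sys O U).map (homOfLE hT) b := by
    refine ⟨fun v => (h ⟨v.1, v.2.1⟩ v.2.2).choose, funext fun v => ?_⟩
    exact (h ⟨v.1, v.2.1⟩ v.2.2).choose_spec
  have := map_dvd (colimit.ι (sys O U) T').hom hd
  rw [← colimit.w (sys O U) (homOfLE hT), ConcreteCategory.comp_apply, ConcreteCategory.comp_apply]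
  exact this

theorem isDomain_colimit : IsDomain (colimit (sys O U) : CommRingCat.{u}) := by
  haveI : Nontrivial (colimit (sys O U) : CommRingCat.{u}) := by
    refine ⟨1, 0, fun h => ?_⟩
    let T₀ : Idx U := Classical.arbitrary _
    rw [← map_one (colimit.ι (sys O U) T₀).hom, ← map_zero (colimit.ι (sys O U) T₀).hom] at h
    obtain ⟨k, f, g, hk⟩ := Concrete.colimit_exists_of_rep_eq (sys O U) _ _ h
    obtain ⟨v, hv⟩ := U.nonempty_of_mem (OrderDual.ofDual k).2
    exact one_ne_zero (congrFun hk ⟨v, hv⟩ : (1 : O v) = 0)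
  haveI : NoZeroDivisors (colimit (sys O U) : CommRingCat.{u}) := ⟨fun {x y} hxy => by
    obtain ⟨T, a, b, rfl, rfl⟩ := exists_rep₂ O U x y
    rw [← map_mul, ← map_zero (colimit.ι (sys O U) T).hom] at hxy
    obtain ⟨k, f, g, hk⟩ := Concrete.colimit_exists_of_rep_eq (sys O U) _ _ hxy
    classical
    rcases U.mem_or_compl_mem {v | ∀ hv : v ∈ (OrderDual.ofDual T).1, a ⟨v, hv⟩ = 0} with hS | hS
    · exact Or.inl (ι_eq_zero O U a hS fun v hv => hv v.2)
    · refine Or.inr (ι_eq_zero O U b (Filter.inter_mem hS (OrderDual.ofDual k).2) fun v hv => ?_)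
      have h1 : a v * b v = 0 := congrFun hk ⟨v.1, hv.2⟩
      refine (mul_eq_zero.1 h1).resolve_left fun h2 => hv.1 fun _ => h2⟩
  exact NoZeroDivisors.to_isDomain _

theorem valuationRing_colimit [∀ v, ValuationRing (O v)] :
    haveI := isDomain_colimit O U
    ValuationRing (colimit (sys O U) : CommRingCat.{u}) := by
  haveI := isDomain_colimit O U
  refine ValuationRing.iff_dvd_total.2 ⟨fun x y => ?_⟩
  obtain ⟨T, a, b, rfl, rfl⟩ := exists_rep₂ O U x y
  rcases U.mem_or_compl_mem {v | ∀ hv : v ∈ (OrderDual.ofDual T).1, a ⟨v, hv⟩ ∣ b ⟨v, hv⟩} with hS | hS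
  · exact Or.inl (ι_dvd O U a b hS fun v hv => hv v.2)
  · refine Or.inr (ι_dvd O U b a hS fun v hv => ?_)
    exact ((ValuationRing.iff_dvd_total.1 inferInstance).1 (a v) (b v)).resolve_left fun h2 => hv fun _ => h2

theorem subsingleton_H_colimit [∀ v, ValuationRing (O v)] (i : ℕ) (hi : 0 < i) :
    Subsingleton (EtCoh.H (Spec (colimit (sys O U)))
      (EtCoh.const (Spec (colimit (sys O U))) ℚ) i) := by
  haveI := isDomain_colimit O U
  haveI := valuationRing_colimit O U
  let A : CommRingCat.{u} := colimit (sys O U)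
  haveI : IsIntegral (Spec A) := inferInstance
  refine EtRatLib.subsingleton_H_rat_integral (Spec A) (fun x => ?_) i hi
  letI : Algebra A ((Spec A).presheaf.stalk x) := StructureSheaf.stalkAlgebra _ x
  haveI : IsLocalization.AtPrime ((Spec A).presheaf.stalk x) x.asIdeal := StructureSheaf.IsLocalization.to_stalk _ x
  exact isIntegrallyClosed_of_isLocalization _ x.asIdeal.primeCompl x.asIdeal.primeCompl_le_nonZeroDivisors

end Component

variable [∀ v, IsDomain (O v)] [∀ v, ValuationRing (O v)]

theorem subsingleton_H_univ (i : ℕ) (hi : 0 < i) :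
    Subsingleton (EtCoh.H (Spec (CommRingCat.of (R O Set.univ)))
      (EtCoh.const (Spec (CommRingCat.of (R O Set.univ))) ℚ) i) := by
  classical
  let X₀ := Spec (CommRingCat.of (R O Set.univ))
  refine subsingleton_of_forall_eq 0 fun x => ?_
  let Good : Set V → Prop := fun T => (Ext.mk₀ (toConst (W O T))).comp x (zero_add i) = 0
  have hempty : Good ∅ := by
    haveI : IsEmpty ↥(W O (∅ : Set V)).left := inferInstanceAs (IsEmpty (PrimeSpectrum (R O (∅ : Set V))))
    show _ = 0
    rw [(EtRatLib.isZero_free_of_isEmpty (W O (∅ : Set V))).eq_of_src (toConst (W O (∅ : Set V))) 0, Ext.mk₀_zero, Ext.zero_comp]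
  have hmono : ∀ {A B : Set V}, A ⊆ B → Good B → Good A := fun {A B} h hB => by
    show _ = 0
    rw [← freeMap_toConst (inW O h), ← Ext.mk₀_comp_mk₀, Ext.comp_assoc_of_second_deg_zero]
    erw [hB]
    rw [Ext.comp_zero]
  have hunion : ∀ {A B : Set V}, Disjoint A B → Good A → Good B → Good (A ∪ B) := fun {A B} hd hA hB => by
    let iC : W O ∅ ⟶ W O A := inW O (Set.empty_subset A)
    let jC : W O ∅ ⟶ W O B := inW O (Set.empty_subset B)
    let pa : W O A ⟶ W O (A ∪ B) := inW O Set.subset_union_left
    let pb : W O B ⟶ W O (A ∪ B) := inW O Set.subset_union_right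
    haveI : IsOpenImmersion iC.left := isOpenImmersion_rs O _
    haveI : IsOpenImmersion pa.left := isOpenImmersion_rs O _
    haveI : IsOpenImmersion pb.left := isOpenImmersion_rs O _
    have w : iC ≫ pa = jC ≫ pb := MorphismProperty.Over.Hom.ext (by
      show Spec.map (CommRingCat.ofHom (rs O _)) ≫ Spec.map (CommRingCat.ofHom (rs O _)) =
        Spec.map (CommRingCat.ofHom (rs O _)) ≫ Spec.map (CommRingCat.ofHom (rs O _))
      rw [← Spec.map_comp, ← Spec.map_comp]
      rfl)
    have hra : Set.range pa.left.base = {p : PrimeSpectrum (R O (A ∪ B)) | (idem O A : R O (A ∪ B)) ∉ p.asIdeal} := range_rs O _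
    have hrb : Set.range pb.left.base = {p : PrimeSpectrum (R O (A ∪ B)) | (idem O B : R O (A ∪ B)) ∉ p.asIdeal} := range_rs O _
    have hM := mvFree_shortExact iC jC pa pb w (Set.eq_univ_of_forall fun p => by
        rw [hra, hrb]
        by_contra hne
        simp only [Set.mem_union, not_or] at hne
        refine (show PrimeSpectrum (R O (A ∪ B)) from p).isPrime.ne_top ((Ideal.eq_top_iff_one _).2 ?_)
        have e : (1 : R O (A ∪ B)) = idem O A + idem O B := funext fun v => by
          simp only [Pi.one_apply, Pi.add_apply, idem]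
          rcases v.2 with hv | hv
          · rw [if_pos hv, if_neg (Set.disjoint_left.1 hd hv), add_zero]
          · rw [if_neg (Set.disjoint_right.1 hd hv), if_pos hv, zero_add]
        rw [e]
        exact Ideal.add_mem _ (not_not.1 hne.1) (not_not.1 hne.2))
      (by
        rw [hra, hrb]
        rintro p ⟨h1, h2⟩
        have e : (idem O A : R O (A ∪ B)) * idem O B = 0 := funext fun v => by
          simp only [Pi.mul_apply, Pi.zero_apply, idem]
          split_ifs with hv hv' <;> simp
          exact absurd hv' (Set.disjoint_left.1 hd hv)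
        exact absurd (((show PrimeSpectrum (R O (A ∪ B)) from p).isPrime.mem_or_mem (e ▸ Ideal.zero_mem _)).elim h1 h2) id)
    let y : Ext.{u + 1} (free (W O (A ∪ B))) (EtCoh.const X₀ ℚ) i := (Ext.mk₀ (toConst (W O (A ∪ B)))).comp x (zero_add i)
    show y = 0
    have h1 : (Ext.mk₀ (mvFree iC jC pa pb w).g).comp y (zero_add i) = 0 := by
      show (Ext.mk₀ (biprod.desc (freeMap pa) (freeMap pb))).comp
        ((Ext.mk₀ (toConst (W O (A ∪ B)))).comp x (zero_add i)) (zero_add i) = 0
      rw [← Ext.comp_assoc_of_second_deg_zero, Ext.mk₀_comp_mk₀,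
        show biprod.desc (freeMap pa) (freeMap pb) ≫ toConst (W O (A ∪ B)) = biprod.desc (toConst (W O A)) (toConst (W O B)) from
          biprod.hom_ext' _ _ (by rw [biprod.inl_desc_assoc, biprod.inl_desc, freeMap_toConst])
            (by rw [biprod.inr_desc_assoc, biprod.inr_desc, freeMap_toConst]),
        biprod.desc_eq, Ext.mk₀_add, Ext.add_comp, ← Ext.mk₀_comp_mk₀, ← Ext.mk₀_comp_mk₀,
        Ext.comp_assoc_of_second_deg_zero, Ext.comp_assoc_of_second_deg_zero, hA, hB, Ext.comp_zero, Ext.comp_zero,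
        add_zero]
    obtain ⟨n, rfl⟩ : ∃ n, i = 1 + n := ⟨i - 1, by omega⟩
    obtain ⟨z, hz⟩ := Ext.contravariant_sequence_exact₃ hM _ y h1 rfl
    haveI : IsEmpty ↥(W O (∅ : Set V)).left := inferInstanceAs (IsEmpty (PrimeSpectrum (R O (∅ : Set V))))
    have h0 : 𝟙 (free (W O (∅ : Set V))) = 0 := (EtRatLib.isZero_free_of_isEmpty _).eq_of_src _ _
    have hz0 : z = 0 := by rw [← Ext.mk₀_id_comp z]; erw [h0]; rw [Ext.mk₀_zero, Ext.zero_comp]
    rw [← hz, hz0, Ext.comp_zero]
  suffices hu : Good Set.univ by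
    haveI : PreservesFiniteLimits (EtCoh.pull (W O (Set.univ : Set V)).hom) := EtSliceLib.pullExact _
    haveI : IsIso (W O (Set.univ : Set V)).hom := by
      show IsIso (Spec.map (CommRingCat.ofHom (rs O (Set.subset_univ Set.univ))))
      rw [show CommRingCat.ofHom (rs O (Set.subset_univ (Set.univ : Set V))) = 𝟙 _ from rfl, Spec.map_id]
      infer_instance
    have h := Hpull_eq_psi (W O (Set.univ : Set V)) (EtCoh.const X₀ ℚ) i x
    rw [show (Ext.mk₀ (toConst (W O (Set.univ : Set V)))).comp x (zero_add i) = 0 from hu, map_zero] at h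
    exact (EtPBCProperLib.bijective_of_iso (W O (Set.univ : Set V)).hom (EtCoh.const X₀ ℚ) i).1 (h.trans (map_zero _).symm)
  by_contra hu
  let F : Filter V :=
    { sets := {T | Good Tᶜ}
      univ_sets := by simpa using hempty
      sets_of_superset := fun h hs => hmono (Set.compl_subset_compl.2 hs) h
      inter_sets := fun {A B} hA hB => by
        show Good (A ∩ B)ᶜ
        rw [Set.compl_inter, ← Set.union_diff_self]
        exact hunion disjoint_sdiff_self_right hA (hmono Set.diff_subset hB) }
  haveI : F.NeBot := ⟨fun h => hu (by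
    have h' : (∅ : Set V) ∈ F := Filter.empty_mem_iff_bot.2 h
    simpa using (show Good (∅ : Set V)ᶜ from h'))⟩
  let U := Ultrafilter.of F
  let Xs : (Idx U)ᵒᵖ ⥤ Scheme.{u} := (sys O U).op ⋙ Scheme.Spec
  let c : Cone Xs := Scheme.Spec.mapCone (colimit.cocone (sys O U)).op
  have hc : IsLimit c := isLimitOfPreserves Scheme.Spec (colimit.isColimit (sys O U)).op
  haveI : ∀ a, PreservesFiniteLimits (EtCoh.pull (c.π.app a)) := fun a => EtSliceLib.pullExact _
  haveI : ∀ ⦃a b : (Idx U)ᵒᵖ⦄ (h : a ⟶ b), PreservesFiniteLimits (EtCoh.pull (Xs.map h)) := fun a b h => EtSliceLib.pullExact _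
  let i₀ : Idx U := OrderDual.toDual ⟨Set.univ, Filter.univ_mem⟩
  let F₀ : EtCoh.Ab (Xs.obj (op i₀)) := EtCoh.const _ ℚ
  have hlim := Groth.Agent.S0646.result Xs
    (fun a b h => by
      show IsAffineHom (Spec.map _)
      infer_instance)
    (fun a => inferInstanceAs (CompactSpace ↥(Spec _)))
    (fun a => inferInstanceAs (QuasiSeparatedSpace ↥(Spec _))) c hc i₀ F₀ i
  have hsub : Subsingleton (EtCoh.H c.pt ((EtCoh.pull (c.π.app (op i₀))).obj F₀) i) := by
    obtain ⟨e⟩ := EtPnCohLib.nonempty_H_congr (EtCore.pullConst (c.π.app (op i₀)) ℚ) i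
    haveI : Subsingleton (EtCoh.H c.pt (EtCoh.const c.pt ℚ) i) := subsingleton_H_colimit O U i hi
    exact @Function.Injective.subsingleton _ _ _ e.injective this
  obtain ⟨k, hk, hk0⟩ := hlim.2 i₀ le_rfl (EtCore.Hpull (Xs.map (homOfLE (le_refl i₀)).op) F₀ i x)
    (@Subsingleton.elim (EtCoh.H c.pt ((EtCoh.pull (c.π.app (op i₀))).obj F₀) i) hsub _ _)
  have w : Xs.map (homOfLE hk).op ≫ Xs.map (homOfLE (le_refl i₀)).op = (W O (OrderDual.ofDual k).1).hom := by
    rw [← Functor.map_comp]
    rfl
  haveI : PreservesFiniteLimits (EtCoh.pull (W O (OrderDual.ofDual k).1).hom) := EtSliceLib.pullExact _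
  have h0 := EtContLib.hpull_comp (Xs.map (homOfLE hk).op) (Xs.map (homOfLE (le_refl i₀)).op)
    (W O (OrderDual.ofDual k).1).hom w F₀ i x
  rw [hk0, Ext.zero_comp] at h0
  have h1 := (Hpull_eq_psi (W O (OrderDual.ofDual k).1) F₀ i x).symm.trans h0.symm
  have hgood : Good (OrderDual.ofDual k).1 := (psi_bijective _ i _).1 (h1.trans (map_zero _).symm)
  have hc' : (OrderDual.ofDual k).1ᶜ ∈ U := Ultrafilter.of_le F (show Good (OrderDual.ofDual k).1ᶜᶜ by rwa [compl_compl])
  exact U.empty_notMem (by simpa using Filter.inter_mem (OrderDual.ofDual k).2 hc')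

theorem subsingleton_H_pi (i : ℕ) (hi : 0 < i) :
    Subsingleton (EtCoh.H (Spec (CommRingCat.of (Π v, O v))) (EtCoh.const (Spec (CommRingCat.of (Π v, O v))) ℚ) i) := by
  let e : (Π v, O v) ≃+* R O Set.univ :=
    { toFun := fun f v => f v.1
      invFun := fun g v => g ⟨v, trivial⟩
      left_inv := fun f => rfl
      right_inv := fun g => rfl
      map_mul' := fun _ _ => rfl
      map_add' := fun _ _ => rfl }
  let a : Spec (CommRingCat.of (R O Set.univ)) ⟶ Spec (CommRingCat.of (Π v, O v)) :=
    (Scheme.Spec.mapIso e.toCommRingCatIso.op).hom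
  obtain ⟨e₁⟩ := EtPnCohLib.nonempty_H_pull_iso a (EtCoh.const _ ℚ) i
  obtain ⟨e₂⟩ := EtPnCohLib.nonempty_H_congr (EtCore.pullConst a ℚ) i
  haveI := subsingleton_H_univ O i hi
  exact (e₂.symm.trans e₁).symm.injective.subsingleton

end

end PiRatLib
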